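import Cfsg.Agent.Helper40.NMono

set_option autoImplicit false

namespace Cfsg.Agent.Helper40.NData

open Cfsg Cfsg.Lie Cfsg.Agent.Helper40.NMono Cfsg.Agent.Helper40.SPC

/-- the reflection in the fundamental root number 0 of D4, as a packed table -/
def piD4_0 : ℕ → ℕ := lk 565592643864087472290204273757603651193062799363369534976
/-- the signs of `n_p` for the fundamental root number 0 of D4, as a bit mask -/
def etaD4_0 : ℕ → ℤ := sg 508896
theorem nOK_D4_0 : nOK chevD4 0 piD4_0 etaD4_0 = true := by decide +kernel
theorem piOK_D4_0 : piOK chevD4 0 piD4_0 = true := by decide +kernel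
theorem etaOK_D4_0 : etaOK chevD4 0 piD4_0 etaD4_0 = true := by decide +kernel

end Cfsg.Agent.Helper40.NData
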