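import Cfsg.Agent.Helper40.NMono

set_option autoImplicit false

namespace Cfsg.Agent.Helper40.NData

open Cfsg Cfsg.Lie Cfsg.Agent.Helper40.NMono Cfsg.Agent.Helper40.SPC

/-- the reflection in the fundamental root number 2 of D4, as a packed table -/
def piD4_2 : ℕ → ℕ := lk 565881119482020990812274433957960368099339668429056770816
/-- the signs of `n_p` for the fundamental root number 2 of D4, as a bit mask -/
def etaD4_2 : ℕ → ℤ := sg 6497478
theorem nOK_D4_2 : nOK chevD4 2 piD4_2 etaD4_2 = true := by decide +kernel
theorem piOK_D4_2 : piOK chevD4 2 piD4_2 = true := by decide +kernel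
theorem etaOK_D4_2 : etaOK chevD4 2 piD4_2 etaD4_2 = true := by decide +kernel

end Cfsg.Agent.Helper40.NData
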