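import Cfsg.Agent.Helper40.NMono

set_option autoImplicit false

namespace Cfsg.Agent.Helper40.NData

open Cfsg Cfsg.Lie Cfsg.Agent.Helper40.NMono Cfsg.Agent.Helper40.SPC

/-- the reflection in the fundamental root number 3 of D4, as a packed table -/
def piD4_3 : ℕ → ℕ := lk 565978018496368764364970633948976412520310965285293195776
/-- the signs of `n_p` for the fundamental root number 3 of D4, as a bit mask -/
def etaD4_3 : ℕ → ℤ := sg 5413194
theorem nOK_D4_3 : nOK chevD4 3 piD4_3 etaD4_3 = true := by decide +kernel
theorem piOK_D4_3 : piOK chevD4 3 piD4_3 = true := by decide +kernel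
theorem etaOK_D4_3 : etaOK chevD4 3 piD4_3 etaD4_3 = true := by decide +kernel

end Cfsg.Agent.Helper40.NData
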