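import Cfsg.Agent.Helper40.NMono

set_option autoImplicit false

namespace Cfsg.Agent.Helper40.NData

open Cfsg Cfsg.Lie Cfsg.Agent.Helper40.NMono Cfsg.Agent.Helper40.SPC

/-- the reflection in the fundamental root number 0 of E6, as a packed table -/
def piE6_0 : ℕ → ℕ := lk 68860739535078100914596739045472550060558126031925906698557184978812794185875324317535844633006154102049939227231216439978584304288106533539790046234022772551535750302269696
/-- the signs of `n_p` for the fundamental root number 0 of E6, as a bit mask -/
def etaE6_0 : ℕ → ℤ := sg 143055259877474304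
theorem monoOK_E6_0 : monoOK chevE6 0 piE6_0 etaE6_0 = true := by decide +kernel
theorem spcOK_E6_0_0 : (List.range' 0 24).all (fun r => spcOK chevE6 piE6_0 etaE6_0 (reflC chevE6 0) r) = true := by decide +kernel
theorem spcOK_E6_0_1 : (List.range' 24 24).all (fun r => spcOK chevE6 piE6_0 etaE6_0 (reflC chevE6 0) r) = true := by decide +kernel
theorem spcOK_E6_0_2 : (List.range' 48 24).all (fun r => spcOK chevE6 piE6_0 etaE6_0 (reflC chevE6 0) r) = true := by decide +kernel
theorem nOK_E6_0 : nOK chevE6 0 piE6_0 etaE6_0 = true := by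
  unfold nOK
  rw [monoOK_E6_0, Bool.true_and]
  apply all_range_of_chunks _ _ 24 3 (by norm_num) (by decide)
  intro k hk
  interval_cases k
  · exact spcOK_E6_0_0
  · exact spcOK_E6_0_1
  · exact spcOK_E6_0_2
theorem piOK_E6_0 : piOK chevE6 0 piE6_0 = true := by decide +kernel
theorem etaOK_E6_0 : etaOK chevE6 0 piE6_0 etaE6_0 = true := by decide +kernel

end Cfsg.Agent.Helper40.NData
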