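import Cfsg.Agent.Helper40.NMono

set_option autoImplicit false

namespace Cfsg.Agent.Helper40.NData

open Cfsg Cfsg.Lie Cfsg.Agent.Helper40.NMono Cfsg.Agent.Helper40.SPC

/-- the reflection in the fundamental root number 1 of E6, as a packed table -/
def piE6_1 : ℕ → ℕ := lk 67898379116758311409174261616388753868225998791303625563428882050626415270252589797741478371984307561973422256644613195820774439032392954730690482532434882508821640184463361
/-- the signs of `n_p` for the fundamental root number 1 of E6, as a bit mask -/
def etaE6_1 : ℕ → ℤ := sg 2377332098023254656769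
theorem monoOK_E6_1 : monoOK chevE6 1 piE6_1 etaE6_1 = true := by decide +kernel
theorem spcOK_E6_1_0 : (List.range' 0 24).all (fun r => spcOK chevE6 piE6_1 etaE6_1 (reflC chevE6 1) r) = true := by decide +kernel
theorem spcOK_E6_1_1 : (List.range' 24 24).all (fun r => spcOK chevE6 piE6_1 etaE6_1 (reflC chevE6 1) r) = true := by decide +kernel
theorem spcOK_E6_1_2 : (List.range' 48 24).all (fun r => spcOK chevE6 piE6_1 etaE6_1 (reflC chevE6 1) r) = true := by decide +kernel
theorem nOK_E6_1 : nOK chevE6 1 piE6_1 etaE6_1 = true := by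
  unfold nOK
  rw [monoOK_E6_1, Bool.true_and]
  apply all_range_of_chunks _ _ 24 3 (by norm_num) (by decide)
  intro k hk
  interval_cases k
  · exact spcOK_E6_1_0
  · exact spcOK_E6_1_1
  · exact spcOK_E6_1_2
theorem piOK_E6_1 : piOK chevE6 1 piE6_1 = true := by decide +kernel
theorem etaOK_E6_1 : etaOK chevE6 1 piE6_1 etaE6_1 = true := by decide +kernel

end Cfsg.Agent.Helper40.NData
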