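import Cfsg.Agent.Helper40.NMono

set_option autoImplicit false

namespace Cfsg.Agent.Helper40.NData

open Cfsg Cfsg.Lie Cfsg.Agent.Helper40.NMono Cfsg.Agent.Helper40.SPC

/-- the reflection in the fundamental root number 2 of E6, as a packed table -/
def piE6_2 : ℕ → ℕ := lk 68860695135535158216797058934368584078938789528211777354868258615236502524939434476014300653026239562496047166733737140692285179851664431971808751874688785261135318011412736
/-- the signs of `n_p` for the fundamental root number 2 of E6, as a bit mask -/
def etaE6_2 : ℕ → ℤ := sg 1033169672869552603164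
theorem monoOK_E6_2 : monoOK chevE6 2 piE6_2 etaE6_2 = true := by decide +kernel
theorem spcOK_E6_2_0 : (List.range' 0 24).all (fun r => spcOK chevE6 piE6_2 etaE6_2 (reflC chevE6 2) r) = true := by decide +kernel
theorem spcOK_E6_2_1 : (List.range' 24 24).all (fun r => spcOK chevE6 piE6_2 etaE6_2 (reflC chevE6 2) r) = true := by decide +kernel
theorem spcOK_E6_2_2 : (List.range' 48 24).all (fun r => spcOK chevE6 piE6_2 etaE6_2 (reflC chevE6 2) r) = true := by decide +kernel
theorem nOK_E6_2 : nOK chevE6 2 piE6_2 etaE6_2 = true := by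
  unfold nOK
  rw [monoOK_E6_2, Bool.true_and]
  apply all_range_of_chunks _ _ 24 3 (by norm_num) (by decide)
  intro k hk
  interval_cases k
  · exact spcOK_E6_2_0
  · exact spcOK_E6_2_1
  · exact spcOK_E6_2_2
theorem piOK_E6_2 : piOK chevE6 2 piE6_2 = true := by decide +kernel
theorem etaOK_E6_2 : etaOK chevE6 2 piE6_2 etaE6_2 = true := by decide +kernel

end Cfsg.Agent.Helper40.NData
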