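import Cfsg.Agent.Helper40.NMono

set_option autoImplicit false

namespace Cfsg.Agent.Helper40.NData

open Cfsg Cfsg.Lie Cfsg.Agent.Helper40.NMono Cfsg.Agent.Helper40.SPC

/-- the reflection in the fundamental root number 3 of E6, as a packed table -/
def piE6_3 : ℕ → ℕ := lk 68856980314703697980439144254334973515401028023823060939175680109056393390696631820261994746199928716884708600540244424635743493790229057459399689936210111163618278074548736
/-- the signs of `n_p` for the fundamental root number 3 of E6, as a bit mask -/
def etaE6_3 : ℕ → ℤ := sg 1236247255438460330178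
theorem monoOK_E6_3 : monoOK chevE6 3 piE6_3 etaE6_3 = true := by decide +kernel
theorem spcOK_E6_3_0 : (List.range' 0 24).all (fun r => spcOK chevE6 piE6_3 etaE6_3 (reflC chevE6 3) r) = true := by decide +kernel
theorem spcOK_E6_3_1 : (List.range' 24 24).all (fun r => spcOK chevE6 piE6_3 etaE6_3 (reflC chevE6 3) r) = true := by decide +kernel
theorem spcOK_E6_3_2 : (List.range' 48 24).all (fun r => spcOK chevE6 piE6_3 etaE6_3 (reflC chevE6 3) r) = true := by decide +kernel
theorem nOK_E6_3 : nOK chevE6 3 piE6_3 etaE6_3 = true := by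
  unfold nOK
  rw [monoOK_E6_3, Bool.true_and]
  apply all_range_of_chunks _ _ 24 3 (by norm_num) (by decide)
  intro k hk
  interval_cases k
  · exact spcOK_E6_3_0
  · exact spcOK_E6_3_1
  · exact spcOK_E6_3_2
theorem piOK_E6_3 : piOK chevE6 3 piE6_3 = true := by decide +kernel
theorem etaOK_E6_3 : etaOK chevE6 3 piE6_3 etaE6_3 = true := by decide +kernel

end Cfsg.Agent.Helper40.NData
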