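import Cfsg.Agent.Helper40.NMono

set_option autoImplicit false

namespace Cfsg.Agent.Helper40.NData

open Cfsg Cfsg.Lie Cfsg.Agent.Helper40.NMono Cfsg.Agent.Helper40.SPC

/-- the reflection in the fundamental root number 4 of E6, as a packed table -/
def piE6_4 : ℕ → ℕ := lk 68860724850632303803458732998465812266828810094652722312245356555948991877575451183817923578624086719198522082862514929281160200302940551006277733868069131789022201037127936
/-- the signs of `n_p` for the fundamental root number 4 of E6, as a bit mask -/
def etaE6_4 : ℕ → ℤ := sg 669309514447770948132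
theorem monoOK_E6_4 : monoOK chevE6 4 piE6_4 etaE6_4 = true := by decide +kernel
theorem spcOK_E6_4_0 : (List.range' 0 24).all (fun r => spcOK chevE6 piE6_4 etaE6_4 (reflC chevE6 4) r) = true := by decide +kernel
theorem spcOK_E6_4_1 : (List.range' 24 24).all (fun r => spcOK chevE6 piE6_4 etaE6_4 (reflC chevE6 4) r) = true := by decide +kernel
theorem spcOK_E6_4_2 : (List.range' 48 24).all (fun r => spcOK chevE6 piE6_4 etaE6_4 (reflC chevE6 4) r) = true := by decide +kernel
theorem nOK_E6_4 : nOK chevE6 4 piE6_4 etaE6_4 = true := by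
  unfold nOK
  rw [monoOK_E6_4, Bool.true_and]
  apply all_range_of_chunks _ _ 24 3 (by norm_num) (by decide)
  intro k hk
  interval_cases k
  · exact spcOK_E6_4_0
  · exact spcOK_E6_4_1
  · exact spcOK_E6_4_2
theorem piOK_E6_4 : piOK chevE6 4 piE6_4 = true := by decide +kernel
theorem etaOK_E6_4 : etaOK chevE6 4 piE6_4 etaE6_4 = true := by decide +kernel

end Cfsg.Agent.Helper40.NData
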