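import Cfsg.Agent.Helper40.NMono

set_option autoImplicit false

namespace Cfsg.Agent.Helper40.NData

open Cfsg Cfsg.Lie Cfsg.Agent.Helper40.NMono Cfsg.Agent.Helper40.SPC

/-- the reflection in the fundamental root number 5 of E6, as a packed table -/
def piE6_5 : ℕ → ℕ := lk 68860739477726650154684651250440147524905899556371060941805998667168077050675229181777609482453672249988869994526207384147299178654162362870440666247900439482662894518272256
/-- the signs of `n_p` for the fundamental root number 5 of E6, as a bit mask -/
def etaE6_5 : ℕ → ℤ := sg 342440805587411929416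
theorem monoOK_E6_5 : monoOK chevE6 5 piE6_5 etaE6_5 = true := by decide +kernel
theorem spcOK_E6_5_0 : (List.range' 0 24).all (fun r => spcOK chevE6 piE6_5 etaE6_5 (reflC chevE6 5) r) = true := by decide +kernel
theorem spcOK_E6_5_1 : (List.range' 24 24).all (fun r => spcOK chevE6 piE6_5 etaE6_5 (reflC chevE6 5) r) = true := by decide +kernel
theorem spcOK_E6_5_2 : (List.range' 48 24).all (fun r => spcOK chevE6 piE6_5 etaE6_5 (reflC chevE6 5) r) = true := by decide +kernel
theorem nOK_E6_5 : nOK chevE6 5 piE6_5 etaE6_5 = true := by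
  unfold nOK
  rw [monoOK_E6_5, Bool.true_and]
  apply all_range_of_chunks _ _ 24 3 (by norm_num) (by decide)
  intro k hk
  interval_cases k
  · exact spcOK_E6_5_0
  · exact spcOK_E6_5_1
  · exact spcOK_E6_5_2
theorem piOK_E6_5 : piOK chevE6 5 piE6_5 = true := by decide +kernel
theorem etaOK_E6_5 : etaOK chevE6 5 piE6_5 etaE6_5 = true := by decide +kernel

end Cfsg.Agent.Helper40.NData
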