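import Cfsg.Agent.Helper40.NMono

set_option autoImplicit false

namespace Cfsg.Agent.Helper40.NData

open Cfsg Cfsg.Lie Cfsg.Agent.Helper40.NMono Cfsg.Agent.Helper40.SPC

/-- the reflection in the fundamental root number 0 of E7, as a packed table -/
def piE7_0 : ℕ → ℕ := lk 1333922837158942011638783835004871262489243524474933806757983325204324354148955901128787715251435855896924984706939979518567157242719197682064722754383056752064764745714105188869695029532754693822593611899134007025978423511653352929402726346889239349767349520011297160997758072428838116713298751769411585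
/-- the signs of `n_p` for the fundamental root number 0 of E7, as a bit mask -/
def etaE7_0 : ℕ → ℤ := sg 42535295884914969941661665728038699009
theorem monoOK_E7_0 : monoOK chevE7 0 piE7_0 etaE7_0 = true := by decide +kernel
theorem spcOK_E7_0_0 : (List.range' 0 21).all (fun r => spcOK chevE7 piE7_0 etaE7_0 (reflC chevE7 0) r) = true := by decide +kernel
theorem spcOK_E7_0_1 : (List.range' 21 21).all (fun r => spcOK chevE7 piE7_0 etaE7_0 (reflC chevE7 0) r) = true := by decide +kernel
theorem spcOK_E7_0_2 : (List.range' 42 21).all (fun r => spcOK chevE7 piE7_0 etaE7_0 (reflC chevE7 0) r) = true := by decide +kernel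
theorem spcOK_E7_0_3 : (List.range' 63 21).all (fun r => spcOK chevE7 piE7_0 etaE7_0 (reflC chevE7 0) r) = true := by decide +kernel
theorem spcOK_E7_0_4 : (List.range' 84 21).all (fun r => spcOK chevE7 piE7_0 etaE7_0 (reflC chevE7 0) r) = true := by decide +kernel
theorem spcOK_E7_0_5 : (List.range' 105 21).all (fun r => spcOK chevE7 piE7_0 etaE7_0 (reflC chevE7 0) r) = true := by decide +kernel
theorem nOK_E7_0 : nOK chevE7 0 piE7_0 etaE7_0 = true := by
  unfold nOK
  rw [monoOK_E7_0, Bool.true_and]
  apply all_range_of_chunks _ _ 21 6 (by norm_num) (by decide)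
  intro k hk
  interval_cases k
  · exact spcOK_E7_0_0
  · exact spcOK_E7_0_1
  · exact spcOK_E7_0_2
  · exact spcOK_E7_0_3
  · exact spcOK_E7_0_4
  · exact spcOK_E7_0_5
theorem piOK_E7_0 : piOK chevE7 0 piE7_0 = true := by decide +kernel
theorem etaOK_E7_0 : etaOK chevE7 0 piE7_0 etaE7_0 = true := by decide +kernel

end Cfsg.Agent.Helper40.NData
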