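import Cfsg.Agent.Helper40.NMono

set_option autoImplicit false

namespace Cfsg.Agent.Helper40.NData

open Cfsg Cfsg.Lie Cfsg.Agent.Helper40.NMono Cfsg.Agent.Helper40.SPC

/-- the reflection in the fundamental root number 1 of E7, as a packed table -/
def piE7_1 : ℕ → ℕ := lk 1344596064861142540599490890337037530396506312014796134457654209860766914474355053533424106448304668641750238146235616625298608967855065371567541345205591130313893835021149335810105157533873267793712369235831381486269171621811991934200833355141336107082133768387345013012537819798176998924533019780972800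
/-- the signs of `n_p` for the fundamental root number 1 of E7, as a bit mask -/
def etaE7_1 : ℕ → ℤ := sg 9969219475911752942880135688992325752
theorem monoOK_E7_1 : monoOK chevE7 1 piE7_1 etaE7_1 = true := by decide +kernel
theorem spcOK_E7_1_0 : (List.range' 0 21).all (fun r => spcOK chevE7 piE7_1 etaE7_1 (reflC chevE7 1) r) = true := by decide +kernel
theorem spcOK_E7_1_1 : (List.range' 21 21).all (fun r => spcOK chevE7 piE7_1 etaE7_1 (reflC chevE7 1) r) = true := by decide +kernel
theorem spcOK_E7_1_2 : (List.range' 42 21).all (fun r => spcOK chevE7 piE7_1 etaE7_1 (reflC chevE7 1) r) = true := by decide +kernel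
theorem spcOK_E7_1_3 : (List.range' 63 21).all (fun r => spcOK chevE7 piE7_1 etaE7_1 (reflC chevE7 1) r) = true := by decide +kernel
theorem spcOK_E7_1_4 : (List.range' 84 21).all (fun r => spcOK chevE7 piE7_1 etaE7_1 (reflC chevE7 1) r) = true := by decide +kernel
theorem spcOK_E7_1_5 : (List.range' 105 21).all (fun r => spcOK chevE7 piE7_1 etaE7_1 (reflC chevE7 1) r) = true := by decide +kernel
theorem nOK_E7_1 : nOK chevE7 1 piE7_1 etaE7_1 = true := by
  unfold nOK
  rw [monoOK_E7_1, Bool.true_and]
  apply all_range_of_chunks _ _ 21 6 (by norm_num) (by decide)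
  intro k hk
  interval_cases k
  · exact spcOK_E7_1_0
  · exact spcOK_E7_1_1
  · exact spcOK_E7_1_2
  · exact spcOK_E7_1_3
  · exact spcOK_E7_1_4
  · exact spcOK_E7_1_5
theorem piOK_E7_1 : piOK chevE7 1 piE7_1 = true := by decide +kernel
theorem etaOK_E7_1 : etaOK chevE7 1 piE7_1 etaE7_1 = true := by decide +kernel

end Cfsg.Agent.Helper40.NData
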