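import Cfsg.Agent.Helper40.NMono

set_option autoImplicit false

namespace Cfsg.Agent.Helper40.NData

open Cfsg Cfsg.Lie Cfsg.Agent.Helper40.NMono Cfsg.Agent.Helper40.SPC

/-- the reflection in the fundamental root number 2 of E7, as a packed table -/
def piE7_2 : ℕ → ℕ := lk 1344554375120106414798065960470017614978713755228414151433370668601621092779175356141058506517844188051958962228323355573505999256791464453714183605373019334854214694897010135565448054736646733569358624734534287147711832887250382219472046131816456686545071408428738776743299531196152165404305104465625600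
/-- the signs of `n_p` for the fundamental root number 2 of E7, as a bit mask -/
def etaE7_2 : ℕ → ℤ := sg 21308537290271745760265171479237359618
theorem monoOK_E7_2 : monoOK chevE7 2 piE7_2 etaE7_2 = true := by decide +kernel
theorem spcOK_E7_2_0 : (List.range' 0 21).all (fun r => spcOK chevE7 piE7_2 etaE7_2 (reflC chevE7 2) r) = true := by decide +kernel
theorem spcOK_E7_2_1 : (List.range' 21 21).all (fun r => spcOK chevE7 piE7_2 etaE7_2 (reflC chevE7 2) r) = true := by decide +kernel
theorem spcOK_E7_2_2 : (List.range' 42 21).all (fun r => spcOK chevE7 piE7_2 etaE7_2 (reflC chevE7 2) r) = true := by decide +kernel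
theorem spcOK_E7_2_3 : (List.range' 63 21).all (fun r => spcOK chevE7 piE7_2 etaE7_2 (reflC chevE7 2) r) = true := by decide +kernel
theorem spcOK_E7_2_4 : (List.range' 84 21).all (fun r => spcOK chevE7 piE7_2 etaE7_2 (reflC chevE7 2) r) = true := by decide +kernel
theorem spcOK_E7_2_5 : (List.range' 105 21).all (fun r => spcOK chevE7 piE7_2 etaE7_2 (reflC chevE7 2) r) = true := by decide +kernel
theorem nOK_E7_2 : nOK chevE7 2 piE7_2 etaE7_2 = true := by
  unfold nOK
  rw [monoOK_E7_2, Bool.true_and]
  apply all_range_of_chunks _ _ 21 6 (by norm_num) (by decide)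
  intro k hk
  interval_cases k
  · exact spcOK_E7_2_0
  · exact spcOK_E7_2_1
  · exact spcOK_E7_2_2
  · exact spcOK_E7_2_3
  · exact spcOK_E7_2_4
  · exact spcOK_E7_2_5
theorem piOK_E7_2 : piOK chevE7 2 piE7_2 = true := by decide +kernel
theorem etaOK_E7_2 : etaOK chevE7 2 piE7_2 etaE7_2 = true := by decide +kernel

end Cfsg.Agent.Helper40.NData
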