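import Cfsg.Agent.Helper40.NMono

set_option autoImplicit false

namespace Cfsg.Agent.Helper40.NData

open Cfsg Cfsg.Lie Cfsg.Agent.Helper40.NMono Cfsg.Agent.Helper40.SPC

/-- the reflection in the fundamental root number 3 of E7, as a packed table -/
def piE7_3 : ℕ → ℕ := lk 1344595904565267213246157475033494803249157207063324738659324389841659715695283955303815316936280329696179597506512307998177941509827115356010016869474657504041538202575428963476748087995021914745714269311908081227369626699231579603641239181490320192525717933280632587761748264543583905599801831599571200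
/-- the signs of `n_p` for the fundamental root number 3 of E7, as a bit mask -/
def etaE7_3 : ℕ → ℤ := sg 10924663619488793363045094406352799492
theorem monoOK_E7_3 : monoOK chevE7 3 piE7_3 etaE7_3 = true := by decide +kernel
theorem spcOK_E7_3_0 : (List.range' 0 21).all (fun r => spcOK chevE7 piE7_3 etaE7_3 (reflC chevE7 3) r) = true := by decide +kernel
theorem spcOK_E7_3_1 : (List.range' 21 21).all (fun r => spcOK chevE7 piE7_3 etaE7_3 (reflC chevE7 3) r) = true := by decide +kernel
theorem spcOK_E7_3_2 : (List.range' 42 21).all (fun r => spcOK chevE7 piE7_3 etaE7_3 (reflC chevE7 3) r) = true := by decide +kernel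
theorem spcOK_E7_3_3 : (List.range' 63 21).all (fun r => spcOK chevE7 piE7_3 etaE7_3 (reflC chevE7 3) r) = true := by decide +kernel
theorem spcOK_E7_3_4 : (List.range' 84 21).all (fun r => spcOK chevE7 piE7_3 etaE7_3 (reflC chevE7 3) r) = true := by decide +kernel
theorem spcOK_E7_3_5 : (List.range' 105 21).all (fun r => spcOK chevE7 piE7_3 etaE7_3 (reflC chevE7 3) r) = true := by decide +kernel
theorem nOK_E7_3 : nOK chevE7 3 piE7_3 etaE7_3 = true := by
  unfold nOK
  rw [monoOK_E7_3, Bool.true_and]
  apply all_range_of_chunks _ _ 21 6 (by norm_num) (by decide)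
  intro k hk
  interval_cases k
  · exact spcOK_E7_3_0
  · exact spcOK_E7_3_1
  · exact spcOK_E7_3_2
  · exact spcOK_E7_3_3
  · exact spcOK_E7_3_4
  · exact spcOK_E7_3_5
theorem piOK_E7_3 : piOK chevE7 3 piE7_3 = true := by decide +kernel
theorem etaOK_E7_3 : etaOK chevE7 3 piE7_3 etaE7_3 = true := by decide +kernel

end Cfsg.Agent.Helper40.NData
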