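import Cfsg.Agent.Helper40.NMono

set_option autoImplicit false

namespace Cfsg.Agent.Helper40.NData

open Cfsg Cfsg.Lie Cfsg.Agent.Helper40.NMono Cfsg.Agent.Helper40.SPC

/-- the reflection in the fundamental root number 4 of E7, as a packed table -/
def piE7_4 : ℕ → ℕ := lk 1344596066789662372468730772808347860477161005122219541718508235419833626106302450745862748198090247695116521795627890666608206327119702733434927280617614040672948193304917070539624301444895806139576218160085363566180297830617521222446695171034178763232251478019132116438882014609021606895640681331687680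
/-- the signs of `n_p` for the fundamental root number 4 of E7, as a bit mask -/
def etaE7_4 : ℕ → ℤ := sg 5665040612189914454778297062204911752
theorem monoOK_E7_4 : monoOK chevE7 4 piE7_4 etaE7_4 = true := by decide +kernel
theorem spcOK_E7_4_0 : (List.range' 0 21).all (fun r => spcOK chevE7 piE7_4 etaE7_4 (reflC chevE7 4) r) = true := by decide +kernel
theorem spcOK_E7_4_1 : (List.range' 21 21).all (fun r => spcOK chevE7 piE7_4 etaE7_4 (reflC chevE7 4) r) = true := by decide +kernel
theorem spcOK_E7_4_2 : (List.range' 42 21).all (fun r => spcOK chevE7 piE7_4 etaE7_4 (reflC chevE7 4) r) = true := by decide +kernel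
theorem spcOK_E7_4_3 : (List.range' 63 21).all (fun r => spcOK chevE7 piE7_4 etaE7_4 (reflC chevE7 4) r) = true := by decide +kernel
theorem spcOK_E7_4_4 : (List.range' 84 21).all (fun r => spcOK chevE7 piE7_4 etaE7_4 (reflC chevE7 4) r) = true := by decide +kernel
theorem spcOK_E7_4_5 : (List.range' 105 21).all (fun r => spcOK chevE7 piE7_4 etaE7_4 (reflC chevE7 4) r) = true := by decide +kernel
theorem nOK_E7_4 : nOK chevE7 4 piE7_4 etaE7_4 = true := by
  unfold nOK
  rw [monoOK_E7_4, Bool.true_and]
  apply all_range_of_chunks _ _ 21 6 (by norm_num) (by decide)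
  intro k hk
  interval_cases k
  · exact spcOK_E7_4_0
  · exact spcOK_E7_4_1
  · exact spcOK_E7_4_2
  · exact spcOK_E7_4_3
  · exact spcOK_E7_4_4
  · exact spcOK_E7_4_5
theorem piOK_E7_4 : piOK chevE7 4 piE7_4 = true := by decide +kernel
theorem etaOK_E7_4 : etaOK chevE7 4 piE7_4 etaE7_4 = true := by decide +kernel

end Cfsg.Agent.Helper40.NData
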