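import Cfsg.Agent.Helper40.NMono

set_option autoImplicit false

namespace Cfsg.Agent.Helper40.NData

open Cfsg Cfsg.Lie Cfsg.Agent.Helper40.NMono Cfsg.Agent.Helper40.SPC

/-- the reflection in the fundamental root number 6 of E7, as a packed table -/
def piE7_6 : ℕ → ℕ := lk 1344596067425826764034662734529601288506926453046107113143229300984890479501381833876110010911357495579068344096520604677306938752775870105507180309928942299606468867262391627195069014991692130646454801374407591002787052249416073179196764677152311158875352053765052537485552134445183160720605330624610560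
/-- the signs of `n_p` for the fundamental root number 6 of E7, as a bit mask -/
def etaE7_6 : ℕ → ℤ := sg 1425493702456110909934783426152649248
theorem monoOK_E7_6 : monoOK chevE7 6 piE7_6 etaE7_6 = true := by decide +kernel
theorem spcOK_E7_6_0 : (List.range' 0 21).all (fun r => spcOK chevE7 piE7_6 etaE7_6 (reflC chevE7 6) r) = true := by decide +kernel
theorem spcOK_E7_6_1 : (List.range' 21 21).all (fun r => spcOK chevE7 piE7_6 etaE7_6 (reflC chevE7 6) r) = true := by decide +kernel
theorem spcOK_E7_6_2 : (List.range' 42 21).all (fun r => spcOK chevE7 piE7_6 etaE7_6 (reflC chevE7 6) r) = true := by decide +kernel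
theorem spcOK_E7_6_3 : (List.range' 63 21).all (fun r => spcOK chevE7 piE7_6 etaE7_6 (reflC chevE7 6) r) = true := by decide +kernel
theorem spcOK_E7_6_4 : (List.range' 84 21).all (fun r => spcOK chevE7 piE7_6 etaE7_6 (reflC chevE7 6) r) = true := by decide +kernel
theorem spcOK_E7_6_5 : (List.range' 105 21).all (fun r => spcOK chevE7 piE7_6 etaE7_6 (reflC chevE7 6) r) = true := by decide +kernel
theorem nOK_E7_6 : nOK chevE7 6 piE7_6 etaE7_6 = true := by
  unfold nOK
  rw [monoOK_E7_6, Bool.true_and]
  apply all_range_of_chunks _ _ 21 6 (by norm_num) (by decide)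
  intro k hk
  interval_cases k
  · exact spcOK_E7_6_0
  · exact spcOK_E7_6_1
  · exact spcOK_E7_6_2
  · exact spcOK_E7_6_3
  · exact spcOK_E7_6_4
  · exact spcOK_E7_6_5
theorem piOK_E7_6 : piOK chevE7 6 piE7_6 = true := by decide +kernel
theorem etaOK_E7_6 : etaOK chevE7 6 piE7_6 etaE7_6 = true := by decide +kernel

end Cfsg.Agent.Helper40.NData
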