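import Cfsg.Agent.Helper40.NMono

set_option autoImplicit false

namespace Cfsg.Agent.Helper40.NData

open Cfsg Cfsg.Lie Cfsg.Agent.Helper40.NMono Cfsg.Agent.Helper40.SPC

/-- the reflection in the fundamental root number 0 of E8, as a packed table -/
def piE8_0 : ℕ → ℕ := lk 89010710832726070714151161094414522261048587326581510595392028524030207563957026801107561780730543875635899695872657540013727267355752929009945983259756149830046491061614462711827468647410691219483793969699872786852253216181086040217948769591709564461412580249235256415527480204464476331546285723345807496788342194623506928674460502856817942549765057009024427281542244180397900240359504473124310118170232911525014401390998667463253019886626284409262937152958555578213187162928665144744945462487135302530904835859273767658661597756841433802992835089440598390061610903988634517760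
/-- the signs of `n_p` for the fundamental root number 0 of E8, as a bit mask -/
def etaE8_0 : ℕ → ℤ := sg 20597399253703088803137291363919720476649811351842022074600809197223744
theorem monoOK_E8_0 : monoOK chevE8 0 piE8_0 etaE8_0 = true := by decide +kernel
theorem spcOK_E8_0_0 : (List.range' 0 20).all (fun r => spcOK chevE8 piE8_0 etaE8_0 (reflC chevE8 0) r) = true := by decide +kernel
theorem spcOK_E8_0_1 : (List.range' 20 20).all (fun r => spcOK chevE8 piE8_0 etaE8_0 (reflC chevE8 0) r) = true := by decide +kernel
theorem spcOK_E8_0_2 : (List.range' 40 20).all (fun r => spcOK chevE8 piE8_0 etaE8_0 (reflC chevE8 0) r) = true := by decide +kernel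
theorem spcOK_E8_0_3 : (List.range' 60 20).all (fun r => spcOK chevE8 piE8_0 etaE8_0 (reflC chevE8 0) r) = true := by decide +kernel
theorem spcOK_E8_0_4 : (List.range' 80 20).all (fun r => spcOK chevE8 piE8_0 etaE8_0 (reflC chevE8 0) r) = true := by decide +kernel
theorem spcOK_E8_0_5 : (List.range' 100 20).all (fun r => spcOK chevE8 piE8_0 etaE8_0 (reflC chevE8 0) r) = true := by decide +kernel
theorem spcOK_E8_0_6 : (List.range' 120 20).all (fun r => spcOK chevE8 piE8_0 etaE8_0 (reflC chevE8 0) r) = true := by decide +kernel
theorem spcOK_E8_0_7 : (List.range' 140 20).all (fun r => spcOK chevE8 piE8_0 etaE8_0 (reflC chevE8 0) r) = true := by decide +kernel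
theorem spcOK_E8_0_8 : (List.range' 160 20).all (fun r => spcOK chevE8 piE8_0 etaE8_0 (reflC chevE8 0) r) = true := by decide +kernel
theorem spcOK_E8_0_9 : (List.range' 180 20).all (fun r => spcOK chevE8 piE8_0 etaE8_0 (reflC chevE8 0) r) = true := by decide +kernel
theorem spcOK_E8_0_10 : (List.range' 200 20).all (fun r => spcOK chevE8 piE8_0 etaE8_0 (reflC chevE8 0) r) = true := by decide +kernel
theorem spcOK_E8_0_11 : (List.range' 220 20).all (fun r => spcOK chevE8 piE8_0 etaE8_0 (reflC chevE8 0) r) = true := by decide +kernel
theorem nOK_E8_0 : nOK chevE8 0 piE8_0 etaE8_0 = true := by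
  unfold nOK
  rw [monoOK_E8_0, Bool.true_and]
  apply all_range_of_chunks _ _ 20 12 (by norm_num) (by decide)
  intro k hk
  interval_cases k
  · exact spcOK_E8_0_0
  · exact spcOK_E8_0_1
  · exact spcOK_E8_0_2
  · exact spcOK_E8_0_3
  · exact spcOK_E8_0_4
  · exact spcOK_E8_0_5
  · exact spcOK_E8_0_6
  · exact spcOK_E8_0_7
  · exact spcOK_E8_0_8
  · exact spcOK_E8_0_9
  · exact spcOK_E8_0_10
  · exact spcOK_E8_0_11
theorem piOK_E8_0 : piOK chevE8 0 piE8_0 = true := by decide +kernel
theorem etaOK_E8_0 : etaOK chevE8 0 piE8_0 etaE8_0 = true := by decide +kernel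

end Cfsg.Agent.Helper40.NData
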