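import Cfsg.Agent.Helper40.NMono

set_option autoImplicit false

namespace Cfsg.Agent.Helper40.NData

open Cfsg Cfsg.Lie Cfsg.Agent.Helper40.NMono Cfsg.Agent.Helper40.SPC

/-- the reflection in the fundamental root number 1 of E8, as a packed table -/
def piE8_1 : ℕ → ℕ := lk 89010710832725403821992757481139071596698173965191600472753702822147364158672239454480583766054916428145578667561196346286240294973106193453481602022994238457747057000441148872921567985804927830925184562410761361820642221993159403124364699503886667373585590236200204532233412719031984404037316613648740789033672441744072877792284927471549198215319587161646246739142712406116015301396244861203768991281616970164435876457802828834673089209444828885868975419990867550410752616208765434029454275512555058899218984728513362813046938098819618253410658999715481853523381007317721022720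
/-- the signs of `n_p` for the fundamental root number 1 of E8, as a bit mask -/
def etaE8_1 : ℕ → ℤ := sg 41464424276439592458547658795802407934099191135292454134463122888474720
theorem monoOK_E8_1 : monoOK chevE8 1 piE8_1 etaE8_1 = true := by decide +kernel
theorem spcOK_E8_1_0 : (List.range' 0 20).all (fun r => spcOK chevE8 piE8_1 etaE8_1 (reflC chevE8 1) r) = true := by decide +kernel
theorem spcOK_E8_1_1 : (List.range' 20 20).all (fun r => spcOK chevE8 piE8_1 etaE8_1 (reflC chevE8 1) r) = true := by decide +kernel
theorem spcOK_E8_1_2 : (List.range' 40 20).all (fun r => spcOK chevE8 piE8_1 etaE8_1 (reflC chevE8 1) r) = true := by decide +kernel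
theorem spcOK_E8_1_3 : (List.range' 60 20).all (fun r => spcOK chevE8 piE8_1 etaE8_1 (reflC chevE8 1) r) = true := by decide +kernel
theorem spcOK_E8_1_4 : (List.range' 80 20).all (fun r => spcOK chevE8 piE8_1 etaE8_1 (reflC chevE8 1) r) = true := by decide +kernel
theorem spcOK_E8_1_5 : (List.range' 100 20).all (fun r => spcOK chevE8 piE8_1 etaE8_1 (reflC chevE8 1) r) = true := by decide +kernel
theorem spcOK_E8_1_6 : (List.range' 120 20).all (fun r => spcOK chevE8 piE8_1 etaE8_1 (reflC chevE8 1) r) = true := by decide +kernel
theorem spcOK_E8_1_7 : (List.range' 140 20).all (fun r => spcOK chevE8 piE8_1 etaE8_1 (reflC chevE8 1) r) = true := by decide +kernel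
theorem spcOK_E8_1_8 : (List.range' 160 20).all (fun r => spcOK chevE8 piE8_1 etaE8_1 (reflC chevE8 1) r) = true := by decide +kernel
theorem spcOK_E8_1_9 : (List.range' 180 20).all (fun r => spcOK chevE8 piE8_1 etaE8_1 (reflC chevE8 1) r) = true := by decide +kernel
theorem spcOK_E8_1_10 : (List.range' 200 20).all (fun r => spcOK chevE8 piE8_1 etaE8_1 (reflC chevE8 1) r) = true := by decide +kernel
theorem spcOK_E8_1_11 : (List.range' 220 20).all (fun r => spcOK chevE8 piE8_1 etaE8_1 (reflC chevE8 1) r) = true := by decide +kernel
theorem nOK_E8_1 : nOK chevE8 1 piE8_1 etaE8_1 = true := by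
  unfold nOK
  rw [monoOK_E8_1, Bool.true_and]
  apply all_range_of_chunks _ _ 20 12 (by norm_num) (by decide)
  intro k hk
  interval_cases k
  · exact spcOK_E8_1_0
  · exact spcOK_E8_1_1
  · exact spcOK_E8_1_2
  · exact spcOK_E8_1_3
  · exact spcOK_E8_1_4
  · exact spcOK_E8_1_5
  · exact spcOK_E8_1_6
  · exact spcOK_E8_1_7
  · exact spcOK_E8_1_8
  · exact spcOK_E8_1_9
  · exact spcOK_E8_1_10
  · exact spcOK_E8_1_11
theorem piOK_E8_1 : piOK chevE8 1 piE8_1 = true := by decide +kernel
theorem etaOK_E8_1 : etaOK chevE8 1 piE8_1 etaE8_1 = true := by decide +kernel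

end Cfsg.Agent.Helper40.NData
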