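import Cfsg.Agent.Helper40.NMono

set_option autoImplicit false

namespace Cfsg.Agent.Helper40.NData

open Cfsg Cfsg.Lie Cfsg.Agent.Helper40.NMono Cfsg.Agent.Helper40.SPC

/-- the reflection in the fundamental root number 2 of E8, as a packed table -/
def piE8_2 : ℕ → ℕ := lk 89010710832725745165782235459872475154280622121245305451935284189796891986609553508120115617800247381425903506913793501621740144058856426409726296520870105944088071210077208036158123281336922507974837557012631125147342853176418750825867691433342788636856825459490268921107323757655376441022236038140059219790486132896388440655383746867478063393865412376222232171226315736044435218013124881770230153482484127468225324367815592321859374033917761553313348740424564716417650837788186550135374827969386553419933334973793356178552598849513931315254120302644802431154599699746591473920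
/-- the signs of `n_p` for the fundamental root number 2 of E8, as a bit mask -/
def etaE8_2 : ℕ → ℤ := sg 34534849182311705006499453394853494570293073576682290393498244893048992
theorem monoOK_E8_2 : monoOK chevE8 2 piE8_2 etaE8_2 = true := by decide +kernel
theorem spcOK_E8_2_0 : (List.range' 0 20).all (fun r => spcOK chevE8 piE8_2 etaE8_2 (reflC chevE8 2) r) = true := by decide +kernel
theorem spcOK_E8_2_1 : (List.range' 20 20).all (fun r => spcOK chevE8 piE8_2 etaE8_2 (reflC chevE8 2) r) = true := by decide +kernel
theorem spcOK_E8_2_2 : (List.range' 40 20).all (fun r => spcOK chevE8 piE8_2 etaE8_2 (reflC chevE8 2) r) = true := by decide +kernel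
theorem spcOK_E8_2_3 : (List.range' 60 20).all (fun r => spcOK chevE8 piE8_2 etaE8_2 (reflC chevE8 2) r) = true := by decide +kernel
theorem spcOK_E8_2_4 : (List.range' 80 20).all (fun r => spcOK chevE8 piE8_2 etaE8_2 (reflC chevE8 2) r) = true := by decide +kernel
theorem spcOK_E8_2_5 : (List.range' 100 20).all (fun r => spcOK chevE8 piE8_2 etaE8_2 (reflC chevE8 2) r) = true := by decide +kernel
theorem spcOK_E8_2_6 : (List.range' 120 20).all (fun r => spcOK chevE8 piE8_2 etaE8_2 (reflC chevE8 2) r) = true := by decide +kernel
theorem spcOK_E8_2_7 : (List.range' 140 20).all (fun r => spcOK chevE8 piE8_2 etaE8_2 (reflC chevE8 2) r) = true := by decide +kernel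
theorem spcOK_E8_2_8 : (List.range' 160 20).all (fun r => spcOK chevE8 piE8_2 etaE8_2 (reflC chevE8 2) r) = true := by decide +kernel
theorem spcOK_E8_2_9 : (List.range' 180 20).all (fun r => spcOK chevE8 piE8_2 etaE8_2 (reflC chevE8 2) r) = true := by decide +kernel
theorem spcOK_E8_2_10 : (List.range' 200 20).all (fun r => spcOK chevE8 piE8_2 etaE8_2 (reflC chevE8 2) r) = true := by decide +kernel
theorem spcOK_E8_2_11 : (List.range' 220 20).all (fun r => spcOK chevE8 piE8_2 etaE8_2 (reflC chevE8 2) r) = true := by decide +kernel
theorem nOK_E8_2 : nOK chevE8 2 piE8_2 etaE8_2 = true := by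
  unfold nOK
  rw [monoOK_E8_2, Bool.true_and]
  apply all_range_of_chunks _ _ 20 12 (by norm_num) (by decide)
  intro k hk
  interval_cases k
  · exact spcOK_E8_2_0
  · exact spcOK_E8_2_1
  · exact spcOK_E8_2_2
  · exact spcOK_E8_2_3
  · exact spcOK_E8_2_4
  · exact spcOK_E8_2_5
  · exact spcOK_E8_2_6
  · exact spcOK_E8_2_7
  · exact spcOK_E8_2_8
  · exact spcOK_E8_2_9
  · exact spcOK_E8_2_10
  · exact spcOK_E8_2_11
theorem piOK_E8_2 : piOK chevE8 2 piE8_2 = true := by decide +kernel
theorem etaOK_E8_2 : etaOK chevE8 2 piE8_2 etaE8_2 = true := by decide +kernel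

end Cfsg.Agent.Helper40.NData
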