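import Cfsg.Agent.Helper40.NMono

set_option autoImplicit false

namespace Cfsg.Agent.Helper40.NData

open Cfsg Cfsg.Lie Cfsg.Agent.Helper40.NMono Cfsg.Agent.Helper40.SPC

/-- the reflection in the fundamental root number 3 of E8, as a packed table -/
def piE8_3 : ℕ → ℕ := lk 89010710832640042910111002570656357653715391413141566596331023776964856083669365258548140478906507872628955595684419254834843229232697776527642939107948214787375489097164882990093468904723498389665687901900427190291264427804358237891932228052664145351264877813819956450891804972988388003365098856358027288215824823748769396133189946047224742087238448032137898031788973343765419247008549016964559503462021292736161599259527505720347129268890925678250880711178934622972084815217513580310228965341853079554683461698062554884656178636540855221896711318667953180723757473301824405760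
/-- the signs of `n_p` for the fundamental root number 3 of E8, as a bit mask -/
def etaE8_3 : ℕ → ℤ := sg 58692198817062529918959764646698662451337801727423465191247917552271632
theorem monoOK_E8_3 : monoOK chevE8 3 piE8_3 etaE8_3 = true := by decide +kernel
theorem spcOK_E8_3_0 : (List.range' 0 20).all (fun r => spcOK chevE8 piE8_3 etaE8_3 (reflC chevE8 3) r) = true := by decide +kernel
theorem spcOK_E8_3_1 : (List.range' 20 20).all (fun r => spcOK chevE8 piE8_3 etaE8_3 (reflC chevE8 3) r) = true := by decide +kernel
theorem spcOK_E8_3_2 : (List.range' 40 20).all (fun r => spcOK chevE8 piE8_3 etaE8_3 (reflC chevE8 3) r) = true := by decide +kernel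
theorem spcOK_E8_3_3 : (List.range' 60 20).all (fun r => spcOK chevE8 piE8_3 etaE8_3 (reflC chevE8 3) r) = true := by decide +kernel
theorem spcOK_E8_3_4 : (List.range' 80 20).all (fun r => spcOK chevE8 piE8_3 etaE8_3 (reflC chevE8 3) r) = true := by decide +kernel
theorem spcOK_E8_3_5 : (List.range' 100 20).all (fun r => spcOK chevE8 piE8_3 etaE8_3 (reflC chevE8 3) r) = true := by decide +kernel
theorem spcOK_E8_3_6 : (List.range' 120 20).all (fun r => spcOK chevE8 piE8_3 etaE8_3 (reflC chevE8 3) r) = true := by decide +kernel
theorem spcOK_E8_3_7 : (List.range' 140 20).all (fun r => spcOK chevE8 piE8_3 etaE8_3 (reflC chevE8 3) r) = true := by decide +kernel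
theorem spcOK_E8_3_8 : (List.range' 160 20).all (fun r => spcOK chevE8 piE8_3 etaE8_3 (reflC chevE8 3) r) = true := by decide +kernel
theorem spcOK_E8_3_9 : (List.range' 180 20).all (fun r => spcOK chevE8 piE8_3 etaE8_3 (reflC chevE8 3) r) = true := by decide +kernel
theorem spcOK_E8_3_10 : (List.range' 200 20).all (fun r => spcOK chevE8 piE8_3 etaE8_3 (reflC chevE8 3) r) = true := by decide +kernel
theorem spcOK_E8_3_11 : (List.range' 220 20).all (fun r => spcOK chevE8 piE8_3 etaE8_3 (reflC chevE8 3) r) = true := by decide +kernel
theorem nOK_E8_3 : nOK chevE8 3 piE8_3 etaE8_3 = true := by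
  unfold nOK
  rw [monoOK_E8_3, Bool.true_and]
  apply all_range_of_chunks _ _ 20 12 (by norm_num) (by decide)
  intro k hk
  interval_cases k
  · exact spcOK_E8_3_0
  · exact spcOK_E8_3_1
  · exact spcOK_E8_3_2
  · exact spcOK_E8_3_3
  · exact spcOK_E8_3_4
  · exact spcOK_E8_3_5
  · exact spcOK_E8_3_6
  · exact spcOK_E8_3_7
  · exact spcOK_E8_3_8
  · exact spcOK_E8_3_9
  · exact spcOK_E8_3_10
  · exact spcOK_E8_3_11
theorem piOK_E8_3 : piOK chevE8 3 piE8_3 = true := by decide +kernel
theorem etaOK_E8_3 : etaOK chevE8 3 piE8_3 etaE8_3 = true := by decide +kernel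

end Cfsg.Agent.Helper40.NData
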