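import Cfsg.Agent.Helper40.NMono

set_option autoImplicit false

namespace Cfsg.Agent.Helper40.NData

open Cfsg Cfsg.Lie Cfsg.Agent.Helper40.NMono Cfsg.Agent.Helper40.SPC

/-- the reflection in the fundamental root number 4 of E8, as a packed table -/
def piE8_4 : ℕ → ℕ := lk 89010710810700264150582617630331042255881895932910918226714852776874391712560822123306201324846964430844654021744796813142187524010757855487702572916830330127298365693899458709456758086075824036756691770046586241064145029133056116495308293743993175776525086010282095515927038476928213975218102397351640852387061258815504561004829092548212349860608510285292324260881662547262759342960965261517043933646963449207241238405678966067672724730749373320049762418207315511506201541333274614526630211416916896943463791273270459031700074181856090797289197533059447945620264098913323188480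
/-- the signs of `n_p` for the fundamental root number 4 of E8, as a bit mask -/
def etaE8_4 : ℕ → ℤ := sg 112167290887630127568134548647500768953880284869065220113818780602270216
theorem monoOK_E8_4 : monoOK chevE8 4 piE8_4 etaE8_4 = true := by decide +kernel
theorem spcOK_E8_4_0 : (List.range' 0 20).all (fun r => spcOK chevE8 piE8_4 etaE8_4 (reflC chevE8 4) r) = true := by decide +kernel
theorem spcOK_E8_4_1 : (List.range' 20 20).all (fun r => spcOK chevE8 piE8_4 etaE8_4 (reflC chevE8 4) r) = true := by decide +kernel
theorem spcOK_E8_4_2 : (List.range' 40 20).all (fun r => spcOK chevE8 piE8_4 etaE8_4 (reflC chevE8 4) r) = true := by decide +kernel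
theorem spcOK_E8_4_3 : (List.range' 60 20).all (fun r => spcOK chevE8 piE8_4 etaE8_4 (reflC chevE8 4) r) = true := by decide +kernel
theorem spcOK_E8_4_4 : (List.range' 80 20).all (fun r => spcOK chevE8 piE8_4 etaE8_4 (reflC chevE8 4) r) = true := by decide +kernel
theorem spcOK_E8_4_5 : (List.range' 100 20).all (fun r => spcOK chevE8 piE8_4 etaE8_4 (reflC chevE8 4) r) = true := by decide +kernel
theorem spcOK_E8_4_6 : (List.range' 120 20).all (fun r => spcOK chevE8 piE8_4 etaE8_4 (reflC chevE8 4) r) = true := by decide +kernel
theorem spcOK_E8_4_7 : (List.range' 140 20).all (fun r => spcOK chevE8 piE8_4 etaE8_4 (reflC chevE8 4) r) = true := by decide +kernel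
theorem spcOK_E8_4_8 : (List.range' 160 20).all (fun r => spcOK chevE8 piE8_4 etaE8_4 (reflC chevE8 4) r) = true := by decide +kernel
theorem spcOK_E8_4_9 : (List.range' 180 20).all (fun r => spcOK chevE8 piE8_4 etaE8_4 (reflC chevE8 4) r) = true := by decide +kernel
theorem spcOK_E8_4_10 : (List.range' 200 20).all (fun r => spcOK chevE8 piE8_4 etaE8_4 (reflC chevE8 4) r) = true := by decide +kernel
theorem spcOK_E8_4_11 : (List.range' 220 20).all (fun r => spcOK chevE8 piE8_4 etaE8_4 (reflC chevE8 4) r) = true := by decide +kernel
theorem nOK_E8_4 : nOK chevE8 4 piE8_4 etaE8_4 = true := by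
  unfold nOK
  rw [monoOK_E8_4, Bool.true_and]
  apply all_range_of_chunks _ _ 20 12 (by norm_num) (by decide)
  intro k hk
  interval_cases k
  · exact spcOK_E8_4_0
  · exact spcOK_E8_4_1
  · exact spcOK_E8_4_2
  · exact spcOK_E8_4_3
  · exact spcOK_E8_4_4
  · exact spcOK_E8_4_5
  · exact spcOK_E8_4_6
  · exact spcOK_E8_4_7
  · exact spcOK_E8_4_8
  · exact spcOK_E8_4_9
  · exact spcOK_E8_4_10
  · exact spcOK_E8_4_11
theorem piOK_E8_4 : piOK chevE8 4 piE8_4 = true := by decide +kernel
theorem etaOK_E8_4 : etaOK chevE8 4 piE8_4 etaE8_4 = true := by decide +kernel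

end Cfsg.Agent.Helper40.NData
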