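import Cfsg.Agent.Helper40.NMono

set_option autoImplicit false

namespace Cfsg.Agent.Helper40.NData

open Cfsg Cfsg.Lie Cfsg.Agent.Helper40.NMono Cfsg.Agent.Helper40.SPC

/-- the reflection in the fundamental root number 5 of E8, as a packed table -/
def piE8_5 : ℕ → ℕ := lk 89010705194116901706207898042593272076635715598316080962368373660183275904963211241670112868150747514853452339348300442536856573504108070476071578517515459877170448087740084341605535907786739352171560154020690462814959752126950608726406504555309146021826472933762216957718802688115433395906838355161543700798538259399617365590114206434373053162203444095549298876781670225955956867766795389687715615088611026287293754751444324085777775017164061220134326830106176777561728721517073324255709968496742906099242262077598598897834567242933249561462858944112061751703801260570581336320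
/-- the signs of `n_p` for the fundamental root number 5 of E8, as a bit mask -/
def etaE8_5 : ℕ → ℤ := sg 221725565796465234069846255712747878990393484658275795028023269379933188
theorem monoOK_E8_5 : monoOK chevE8 5 piE8_5 etaE8_5 = true := by decide +kernel
theorem spcOK_E8_5_0 : (List.range' 0 20).all (fun r => spcOK chevE8 piE8_5 etaE8_5 (reflC chevE8 5) r) = true := by decide +kernel
theorem spcOK_E8_5_1 : (List.range' 20 20).all (fun r => spcOK chevE8 piE8_5 etaE8_5 (reflC chevE8 5) r) = true := by decide +kernel
theorem spcOK_E8_5_2 : (List.range' 40 20).all (fun r => spcOK chevE8 piE8_5 etaE8_5 (reflC chevE8 5) r) = true := by decide +kernel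
theorem spcOK_E8_5_3 : (List.range' 60 20).all (fun r => spcOK chevE8 piE8_5 etaE8_5 (reflC chevE8 5) r) = true := by decide +kernel
theorem spcOK_E8_5_4 : (List.range' 80 20).all (fun r => spcOK chevE8 piE8_5 etaE8_5 (reflC chevE8 5) r) = true := by decide +kernel
theorem spcOK_E8_5_5 : (List.range' 100 20).all (fun r => spcOK chevE8 piE8_5 etaE8_5 (reflC chevE8 5) r) = true := by decide +kernel
theorem spcOK_E8_5_6 : (List.range' 120 20).all (fun r => spcOK chevE8 piE8_5 etaE8_5 (reflC chevE8 5) r) = true := by decide +kernel
theorem spcOK_E8_5_7 : (List.range' 140 20).all (fun r => spcOK chevE8 piE8_5 etaE8_5 (reflC chevE8 5) r) = true := by decide +kernel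
theorem spcOK_E8_5_8 : (List.range' 160 20).all (fun r => spcOK chevE8 piE8_5 etaE8_5 (reflC chevE8 5) r) = true := by decide +kernel
theorem spcOK_E8_5_9 : (List.range' 180 20).all (fun r => spcOK chevE8 piE8_5 etaE8_5 (reflC chevE8 5) r) = true := by decide +kernel
theorem spcOK_E8_5_10 : (List.range' 200 20).all (fun r => spcOK chevE8 piE8_5 etaE8_5 (reflC chevE8 5) r) = true := by decide +kernel
theorem spcOK_E8_5_11 : (List.range' 220 20).all (fun r => spcOK chevE8 piE8_5 etaE8_5 (reflC chevE8 5) r) = true := by decide +kernel
theorem nOK_E8_5 : nOK chevE8 5 piE8_5 etaE8_5 = true := by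
  unfold nOK
  rw [monoOK_E8_5, Bool.true_and]
  apply all_range_of_chunks _ _ 20 12 (by norm_num) (by decide)
  intro k hk
  interval_cases k
  · exact spcOK_E8_5_0
  · exact spcOK_E8_5_1
  · exact spcOK_E8_5_2
  · exact spcOK_E8_5_3
  · exact spcOK_E8_5_4
  · exact spcOK_E8_5_5
  · exact spcOK_E8_5_6
  · exact spcOK_E8_5_7
  · exact spcOK_E8_5_8
  · exact spcOK_E8_5_9
  · exact spcOK_E8_5_10
  · exact spcOK_E8_5_11
theorem piOK_E8_5 : piOK chevE8 5 piE8_5 = true := by decide +kernel
theorem etaOK_E8_5 : etaOK chevE8 5 piE8_5 etaE8_5 = true := by decide +kernel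

end Cfsg.Agent.Helper40.NData
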