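import Cfsg.Agent.Helper40.NMono

set_option autoImplicit false

namespace Cfsg.Agent.Helper40.NData

open Cfsg Cfsg.Lie Cfsg.Agent.Helper40.NMono Cfsg.Agent.Helper40.SPC

/-- the reflection in the fundamental root number 6 of E8, as a packed table -/
def piE8_6 : ℕ → ℕ := lk 89009267348776115946259729773659820922684365030336125747795389469672832738436486560006107076294386215399861108218061426761033223202858027703265974144867968881077088308644070388014335446175521462296218898606490586008687349314690079072884976809321978274044767002146488503282587066531463532201212884356974697146753815329103501718218155712615386612077501918825553327818300954160685785812314943431026242586854979814233718477042248871847137512423246283316098823861341191045350782894843980481615436882682789356038401372194376474142161795991775560137622389820726250948292215778419212800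
/-- the signs of `n_p` for the fundamental root number 6 of E8, as a bit mask -/
def etaE8_6 : ℕ → ℤ := sg 442146608110382968443535400616058046441516637287510334612417353510815746
theorem monoOK_E8_6 : monoOK chevE8 6 piE8_6 etaE8_6 = true := by decide +kernel
theorem spcOK_E8_6_0 : (List.range' 0 20).all (fun r => spcOK chevE8 piE8_6 etaE8_6 (reflC chevE8 6) r) = true := by decide +kernel
theorem spcOK_E8_6_1 : (List.range' 20 20).all (fun r => spcOK chevE8 piE8_6 etaE8_6 (reflC chevE8 6) r) = true := by decide +kernel
theorem spcOK_E8_6_2 : (List.range' 40 20).all (fun r => spcOK chevE8 piE8_6 etaE8_6 (reflC chevE8 6) r) = true := by decide +kernel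
theorem spcOK_E8_6_3 : (List.range' 60 20).all (fun r => spcOK chevE8 piE8_6 etaE8_6 (reflC chevE8 6) r) = true := by decide +kernel
theorem spcOK_E8_6_4 : (List.range' 80 20).all (fun r => spcOK chevE8 piE8_6 etaE8_6 (reflC chevE8 6) r) = true := by decide +kernel
theorem spcOK_E8_6_5 : (List.range' 100 20).all (fun r => spcOK chevE8 piE8_6 etaE8_6 (reflC chevE8 6) r) = true := by decide +kernel
theorem spcOK_E8_6_6 : (List.range' 120 20).all (fun r => spcOK chevE8 piE8_6 etaE8_6 (reflC chevE8 6) r) = true := by decide +kernel
theorem spcOK_E8_6_7 : (List.range' 140 20).all (fun r => spcOK chevE8 piE8_6 etaE8_6 (reflC chevE8 6) r) = true := by decide +kernel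
theorem spcOK_E8_6_8 : (List.range' 160 20).all (fun r => spcOK chevE8 piE8_6 etaE8_6 (reflC chevE8 6) r) = true := by decide +kernel
theorem spcOK_E8_6_9 : (List.range' 180 20).all (fun r => spcOK chevE8 piE8_6 etaE8_6 (reflC chevE8 6) r) = true := by decide +kernel
theorem spcOK_E8_6_10 : (List.range' 200 20).all (fun r => spcOK chevE8 piE8_6 etaE8_6 (reflC chevE8 6) r) = true := by decide +kernel
theorem spcOK_E8_6_11 : (List.range' 220 20).all (fun r => spcOK chevE8 piE8_6 etaE8_6 (reflC chevE8 6) r) = true := by decide +kernel
theorem nOK_E8_6 : nOK chevE8 6 piE8_6 etaE8_6 = true := by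
  unfold nOK
  rw [monoOK_E8_6, Bool.true_and]
  apply all_range_of_chunks _ _ 20 12 (by norm_num) (by decide)
  intro k hk
  interval_cases k
  · exact spcOK_E8_6_0
  · exact spcOK_E8_6_1
  · exact spcOK_E8_6_2
  · exact spcOK_E8_6_3
  · exact spcOK_E8_6_4
  · exact spcOK_E8_6_5
  · exact spcOK_E8_6_6
  · exact spcOK_E8_6_7
  · exact spcOK_E8_6_8
  · exact spcOK_E8_6_9
  · exact spcOK_E8_6_10
  · exact spcOK_E8_6_11
theorem piOK_E8_6 : piOK chevE8 6 piE8_6 = true := by decide +kernel
theorem etaOK_E8_6 : etaOK chevE8 6 piE8_6 etaE8_6 = true := by decide +kernel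

end Cfsg.Agent.Helper40.NData
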