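import Cfsg.Agent.Helper40.NMono

set_option autoImplicit false

namespace Cfsg.Agent.Helper40.NData

open Cfsg Cfsg.Lie Cfsg.Agent.Helper40.NMono Cfsg.Agent.Helper40.SPC

/-- the reflection in the fundamental root number 7 of E8, as a packed table -/
def piE8_7 : ℕ → ℕ := lk 88641178941534961399528574982133574396814677498906256381400989866246665564627449953229161844680194659074190077933092506923116215135179707304662642718937925229953648022107495859618087372822661764163967864959498616813225990959921021107342227069879379961702186122601970179144962718114610669862116384906490085474227268535270866071537994068712179526991254658483445889533178669162414355083484286780054293952034942920139124176531856893144339475625188267984313062904125435984721199090783521652049076887975122872968631645246134704052914889999252209582043955376412284065663104007717126145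
/-- the signs of `n_p` for the fundamental root number 7 of E8, as a bit mask -/
def etaE8_7 : ℕ → ℤ := sg 883640953424295284539211242083837250739230978062844892341602038697168897
theorem monoOK_E8_7 : monoOK chevE8 7 piE8_7 etaE8_7 = true := by decide +kernel
theorem spcOK_E8_7_0 : (List.range' 0 20).all (fun r => spcOK chevE8 piE8_7 etaE8_7 (reflC chevE8 7) r) = true := by decide +kernel
theorem spcOK_E8_7_1 : (List.range' 20 20).all (fun r => spcOK chevE8 piE8_7 etaE8_7 (reflC chevE8 7) r) = true := by decide +kernel
theorem spcOK_E8_7_2 : (List.range' 40 20).all (fun r => spcOK chevE8 piE8_7 etaE8_7 (reflC chevE8 7) r) = true := by decide +kernel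
theorem spcOK_E8_7_3 : (List.range' 60 20).all (fun r => spcOK chevE8 piE8_7 etaE8_7 (reflC chevE8 7) r) = true := by decide +kernel
theorem spcOK_E8_7_4 : (List.range' 80 20).all (fun r => spcOK chevE8 piE8_7 etaE8_7 (reflC chevE8 7) r) = true := by decide +kernel
theorem spcOK_E8_7_5 : (List.range' 100 20).all (fun r => spcOK chevE8 piE8_7 etaE8_7 (reflC chevE8 7) r) = true := by decide +kernel
theorem spcOK_E8_7_6 : (List.range' 120 20).all (fun r => spcOK chevE8 piE8_7 etaE8_7 (reflC chevE8 7) r) = true := by decide +kernel
theorem spcOK_E8_7_7 : (List.range' 140 20).all (fun r => spcOK chevE8 piE8_7 etaE8_7 (reflC chevE8 7) r) = true := by decide +kernel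
theorem spcOK_E8_7_8 : (List.range' 160 20).all (fun r => spcOK chevE8 piE8_7 etaE8_7 (reflC chevE8 7) r) = true := by decide +kernel
theorem spcOK_E8_7_9 : (List.range' 180 20).all (fun r => spcOK chevE8 piE8_7 etaE8_7 (reflC chevE8 7) r) = true := by decide +kernel
theorem spcOK_E8_7_10 : (List.range' 200 20).all (fun r => spcOK chevE8 piE8_7 etaE8_7 (reflC chevE8 7) r) = true := by decide +kernel
theorem spcOK_E8_7_11 : (List.range' 220 20).all (fun r => spcOK chevE8 piE8_7 etaE8_7 (reflC chevE8 7) r) = true := by decide +kernel
theorem nOK_E8_7 : nOK chevE8 7 piE8_7 etaE8_7 = true := by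
  unfold nOK
  rw [monoOK_E8_7, Bool.true_and]
  apply all_range_of_chunks _ _ 20 12 (by norm_num) (by decide)
  intro k hk
  interval_cases k
  · exact spcOK_E8_7_0
  · exact spcOK_E8_7_1
  · exact spcOK_E8_7_2
  · exact spcOK_E8_7_3
  · exact spcOK_E8_7_4
  · exact spcOK_E8_7_5
  · exact spcOK_E8_7_6
  · exact spcOK_E8_7_7
  · exact spcOK_E8_7_8
  · exact spcOK_E8_7_9
  · exact spcOK_E8_7_10
  · exact spcOK_E8_7_11
theorem piOK_E8_7 : piOK chevE8 7 piE8_7 = true := by decide +kernel
theorem etaOK_E8_7 : etaOK chevE8 7 piE8_7 etaE8_7 = true := by decide +kernel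

end Cfsg.Agent.Helper40.NData
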