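import Cfsg.Agent.Helper40.NMono

set_option autoImplicit false

namespace Cfsg.Agent.Helper40.NData

open Cfsg Cfsg.Lie Cfsg.Agent.Helper40.NMono Cfsg.Agent.Helper40.SPC

/-- the reflection in the fundamental root number 0 of F4, as a packed table -/
def piF4_0 : ℕ → ℕ := lk 7261724565101152271001196648824430191705409898545041084742521782222439549395075633586971079114467536390968217567488
/-- the signs of `n_p` for the fundamental root number 0 of F4, as a bit mask -/
def etaF4_0 : ℕ → ℤ := sg 33964469241720
theorem monoOK_F4_0 : monoOK chevF4 0 piF4_0 etaF4_0 = true := by decide +kernel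
theorem spcOK_F4_0_0 : (List.range' 0 24).all (fun r => spcOK chevF4 piF4_0 etaF4_0 (reflC chevF4 0) r) = true := by decide +kernel
theorem spcOK_F4_0_1 : (List.range' 24 24).all (fun r => spcOK chevF4 piF4_0 etaF4_0 (reflC chevF4 0) r) = true := by decide +kernel
theorem nOK_F4_0 : nOK chevF4 0 piF4_0 etaF4_0 = true := by
  unfold nOK
  rw [monoOK_F4_0, Bool.true_and]
  apply all_range_of_chunks _ _ 24 2 (by norm_num) (by decide)
  intro k hk
  interval_cases k
  · exact spcOK_F4_0_0
  · exact spcOK_F4_0_1
theorem piOK_F4_0 : piOK chevF4 0 piF4_0 = true := by decide +kernel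
theorem etaOK_F4_0 : etaOK chevF4 0 piF4_0 etaF4_0 = true := by decide +kernel

end Cfsg.Agent.Helper40.NData
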