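import Cfsg.Agent.Helper40.NData.NG2_0
import Cfsg.Agent.Helper40.NData.NG2_1
import Cfsg.Agent.Helper40.NData.NB2_0
import Cfsg.Agent.Helper40.NData.NB2_1
import Cfsg.Agent.Helper40.NData.ND4_0
import Cfsg.Agent.Helper40.NData.ND4_1
import Cfsg.Agent.Helper40.NData.ND4_2
import Cfsg.Agent.Helper40.NData.ND4_3
import Cfsg.Agent.Helper40.NData.NF4_0
import Cfsg.Agent.Helper40.NData.NF4_1
import Cfsg.Agent.Helper40.NData.NF4_2
import Cfsg.Agent.Helper40.NData.NF4_3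
import Cfsg.Agent.Helper40.NData.NE6_0
import Cfsg.Agent.Helper40.NData.NE6_1
import Cfsg.Agent.Helper40.NData.NE6_2
import Cfsg.Agent.Helper40.NData.NE6_3
import Cfsg.Agent.Helper40.NData.NE6_4
import Cfsg.Agent.Helper40.NData.NE6_5
import Cfsg.Agent.Helper40.NData.NE7_0
import Cfsg.Agent.Helper40.NData.NE7_1
import Cfsg.Agent.Helper40.NData.NE7_2
import Cfsg.Agent.Helper40.NData.NE7_3
import Cfsg.Agent.Helper40.NData.NE7_4
import Cfsg.Agent.Helper40.NData.NE7_5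
import Cfsg.Agent.Helper40.NData.NE7_6
import Cfsg.Agent.Helper40.NData.NE8_0
import Cfsg.Agent.Helper40.NData.NE8_1
import Cfsg.Agent.Helper40.NData.NE8_2
import Cfsg.Agent.Helper40.NData.NE8_3
import Cfsg.Agent.Helper40.NData.NE8_4
import Cfsg.Agent.Helper40.NData.NE8_5
import Cfsg.Agent.Helper40.NData.NE8_6
import Cfsg.Agent.Helper40.NData.NE8_7
import Cfsg.Agent.Helper40.NForm

/-!
Helper40: the tables of all the reflections `n_p` (p fundamental) of the seven exceptional-type data, collected.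
-/

set_option autoImplicit false

namespace Cfsg.Agent.Helper40.NData

open Cfsg Cfsg.Lie Cfsg.Agent.Helper40.NMono

/-- for every datum and every fundamental root: tables `π`, `η` passing all the checks -/
theorem exists_tables (D : ChevalleyDatum)
    (hD : D ∈ [chevG2, chevB2, chevD4, chevF4, chevE6, chevE7, chevE8]) (i : ℕ) (hi : i < D.rank) :
    ∃ (π : ℕ → ℕ) (η : ℕ → ℤ), nOK D i π η = true ∧ piOK D i π = true ∧ etaOK D i π η = true := by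
  simp only [List.mem_cons, List.not_mem_nil, or_false] at hD
  rcases hD with rfl | rfl | rfl | rfl | rfl | rfl | rfl
  · have hrk : chevG2.rank = 2 := rfl
    rw [hrk] at hi
    interval_cases i
    · exact ⟨_, _, nOK_G2_0, piOK_G2_0, etaOK_G2_0⟩
    · exact ⟨_, _, nOK_G2_1, piOK_G2_1, etaOK_G2_1⟩
  · have hrk : chevB2.rank = 2 := rfl
    rw [hrk] at hi
    interval_cases i
    · exact ⟨_, _, nOK_B2_0, piOK_B2_0, etaOK_B2_0⟩
    · exact ⟨_, _, nOK_B2_1, piOK_B2_1, etaOK_B2_1⟩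
  · have hrk : chevD4.rank = 4 := rfl
    rw [hrk] at hi
    interval_cases i
    · exact ⟨_, _, nOK_D4_0, piOK_D4_0, etaOK_D4_0⟩
    · exact ⟨_, _, nOK_D4_1, piOK_D4_1, etaOK_D4_1⟩
    · exact ⟨_, _, nOK_D4_2, piOK_D4_2, etaOK_D4_2⟩
    · exact ⟨_, _, nOK_D4_3, piOK_D4_3, etaOK_D4_3⟩
  · have hrk : chevF4.rank = 4 := rfl
    rw [hrk] at hi
    interval_cases i
    · exact ⟨_, _, nOK_F4_0, piOK_F4_0, etaOK_F4_0⟩
    · exact ⟨_, _, nOK_F4_1, piOK_F4_1, etaOK_F4_1⟩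
    · exact ⟨_, _, nOK_F4_2, piOK_F4_2, etaOK_F4_2⟩
    · exact ⟨_, _, nOK_F4_3, piOK_F4_3, etaOK_F4_3⟩
  · have hrk : chevE6.rank = 6 := rfl
    rw [hrk] at hi
    interval_cases i
    · exact ⟨_, _, nOK_E6_0, piOK_E6_0, etaOK_E6_0⟩
    · exact ⟨_, _, nOK_E6_1, piOK_E6_1, etaOK_E6_1⟩
    · exact ⟨_, _, nOK_E6_2, piOK_E6_2, etaOK_E6_2⟩
    · exact ⟨_, _, nOK_E6_3, piOK_E6_3, etaOK_E6_3⟩
    · exact ⟨_, _, nOK_E6_4, piOK_E6_4, etaOK_E6_4⟩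
    · exact ⟨_, _, nOK_E6_5, piOK_E6_5, etaOK_E6_5⟩
  · have hrk : chevE7.rank = 7 := rfl
    rw [hrk] at hi
    interval_cases i
    · exact ⟨_, _, nOK_E7_0, piOK_E7_0, etaOK_E7_0⟩
    · exact ⟨_, _, nOK_E7_1, piOK_E7_1, etaOK_E7_1⟩
    · exact ⟨_, _, nOK_E7_2, piOK_E7_2, etaOK_E7_2⟩
    · exact ⟨_, _, nOK_E7_3, piOK_E7_3, etaOK_E7_3⟩
    · exact ⟨_, _, nOK_E7_4, piOK_E7_4, etaOK_E7_4⟩
    · exact ⟨_, _, nOK_E7_5, piOK_E7_5, etaOK_E7_5⟩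
    · exact ⟨_, _, nOK_E7_6, piOK_E7_6, etaOK_E7_6⟩
  · have hrk : chevE8.rank = 8 := rfl
    rw [hrk] at hi
    interval_cases i
    · exact ⟨_, _, nOK_E8_0, piOK_E8_0, etaOK_E8_0⟩
    · exact ⟨_, _, nOK_E8_1, piOK_E8_1, etaOK_E8_1⟩
    · exact ⟨_, _, nOK_E8_2, piOK_E8_2, etaOK_E8_2⟩
    · exact ⟨_, _, nOK_E8_3, piOK_E8_3, etaOK_E8_3⟩
    · exact ⟨_, _, nOK_E8_4, piOK_E8_4, etaOK_E8_4⟩
    · exact ⟨_, _, nOK_E8_5, piOK_E8_5, etaOK_E8_5⟩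
    · exact ⟨_, _, nOK_E8_6, piOK_E8_6, etaOK_E8_6⟩
    · exact ⟨_, _, nOK_E8_7, piOK_E8_7, etaOK_E8_7⟩

end Cfsg.Agent.Helper40.NData
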