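import Cfsg.Agent.Helper40.NMono

set_option autoImplicit false

namespace Cfsg.Agent.Helper40.NData

open Cfsg Cfsg.Lie Cfsg.Agent.Helper40.NMono Cfsg.Agent.Helper40.SPC

/-- the reflection in the fundamental root number 5 of E7, as a packed table -/
def piE7_5 : ℕ → ℕ := lk 1344596067423351416207557940869874944091727118574762836469837882638712679846178606418228818601986310217411887451905765776107214182568852020646749836716948362818007050784749838543502259798351210584973756022172436114146241694089563918431059909805690131092344135313086916729119604848859188691072391118455040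
/-- the signs of `n_p` for the fundamental root number 5 of E7, as a bit mask -/
def etaE7_5 : ℕ → ℤ := sg 2847024252714933557071685096178878736
theorem monoOK_E7_5 : monoOK chevE7 5 piE7_5 etaE7_5 = true := by decide +kernel
theorem spcOK_E7_5_0 : (List.range' 0 21).all (fun r => spcOK chevE7 piE7_5 etaE7_5 (reflC chevE7 5) r) = true := by decide +kernel
theorem spcOK_E7_5_1 : (List.range' 21 21).all (fun r => spcOK chevE7 piE7_5 etaE7_5 (reflC chevE7 5) r) = true := by decide +kernel
theorem spcOK_E7_5_2 : (List.range' 42 21).all (fun r => spcOK chevE7 piE7_5 etaE7_5 (reflC chevE7 5) r) = true := by decide +kernel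
theorem spcOK_E7_5_3 : (List.range' 63 21).all (fun r => spcOK chevE7 piE7_5 etaE7_5 (reflC chevE7 5) r) = true := by decide +kernel
theorem spcOK_E7_5_4 : (List.range' 84 21).all (fun r => spcOK chevE7 piE7_5 etaE7_5 (reflC chevE7 5) r) = true := by decide +kernel
theorem spcOK_E7_5_5 : (List.range' 105 21).all (fun r => spcOK chevE7 piE7_5 etaE7_5 (reflC chevE7 5) r) = true := by decide +kernel
theorem nOK_E7_5 : nOK chevE7 5 piE7_5 etaE7_5 = true := by
  unfold nOK
  rw [monoOK_E7_5, Bool.true_and]
  apply all_range_of_chunks _ _ 21 6 (by norm_num) (by decide)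
  intro k hk
  interval_cases k
  · exact spcOK_E7_5_0
  · exact spcOK_E7_5_1
  · exact spcOK_E7_5_2
  · exact spcOK_E7_5_3
  · exact spcOK_E7_5_4
  · exact spcOK_E7_5_5
theorem piOK_E7_5 : piOK chevE7 5 piE7_5 = true := by decide +kernel
theorem etaOK_E7_5 : etaOK chevE7 5 piE7_5 etaE7_5 = true := by decide +kernel

end Cfsg.Agent.Helper40.NData
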