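import Cfsg.Agent.Helper40.NMono

set_option autoImplicit false

namespace Cfsg.Agent.Helper40.NData

open Cfsg Cfsg.Lie Cfsg.Agent.Helper40.NMono Cfsg.Agent.Helper40.SPC

/-- the reflection in the fundamental root number 3 of F4, as a packed table -/
def piF4_3 : ℕ → ℕ := lk 7108411742389255762021063953019659246634323563397623500971045033854480450961950488139841120255260502304031118589953
/-- the signs of `n_p` for the fundamental root number 3 of F4, as a bit mask -/
def etaF4_3 : ℕ → ℤ := sg 145481911306785
theorem monoOK_F4_3 : monoOK chevF4 3 piF4_3 etaF4_3 = true := by decide +kernel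
theorem spcOK_F4_3_0 : (List.range' 0 24).all (fun r => spcOK chevF4 piF4_3 etaF4_3 (reflC chevF4 3) r) = true := by decide +kernel
theorem spcOK_F4_3_1 : (List.range' 24 24).all (fun r => spcOK chevF4 piF4_3 etaF4_3 (reflC chevF4 3) r) = true := by decide +kernel
theorem nOK_F4_3 : nOK chevF4 3 piF4_3 etaF4_3 = true := by
  unfold nOK
  rw [monoOK_F4_3, Bool.true_and]
  apply all_range_of_chunks _ _ 24 2 (by norm_num) (by decide)
  intro k hk
  interval_cases k
  · exact spcOK_F4_3_0
  · exact spcOK_F4_3_1
theorem piOK_F4_3 : piOK chevF4 3 piF4_3 = true := by decide +kernel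
theorem etaOK_F4_3 : etaOK chevF4 3 piF4_3 etaF4_3 = true := by decide +kernel

end Cfsg.Agent.Helper40.NData
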