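import Cfsg.Agent.Helper40.NMono

set_option autoImplicit false

namespace Cfsg.Agent.Helper40.NData

open Cfsg Cfsg.Lie Cfsg.Agent.Helper40.NMono Cfsg.Agent.Helper40.SPC

/-- the reflection in the fundamental root number 0 of G2, as a packed table -/
def piG2_0 : ℕ → ℕ := lk 3411626608196089407097472256
/-- the signs of `n_p` for the fundamental root number 0 of G2, as a bit mask -/
def etaG2_0 : ℕ → ℤ := sg 1686
theorem nOK_G2_0 : nOK chevG2 0 piG2_0 etaG2_0 = true := by decide +kernel
theorem piOK_G2_0 : piOK chevG2 0 piG2_0 = true := by decide +kernel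
theorem etaOK_G2_0 : etaOK chevG2 0 piG2_0 etaG2_0 = true := by decide +kernel

end Cfsg.Agent.Helper40.NData
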